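import Cfsg.Agent.Lib.Helper28.BG12b
import Cfsg.Agent.Lib.Helper14.BG12A

/-!
# S1438 rung HFUS (written by helper66): fusion in a Hall subgroup of `L = Q : D`
-/

set_option autoImplicit false
set_option linter.unusedSectionVars false
set_option linter.unusedVariables false
set_option linter.style.haveILetI false

namespace Cfsg.Agent.Lib.Helper13.BG153

open Subgroup Cfsg.Agent.Lib.Helper30 Cfsg.Agent.Lib.Helper2

universe u

theorem fusion_of_split {G : Type u} [Group G] [Finite G] {M L Q D H : Subgroup G} {q : ℕ}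
    [Fact q.Prime] (hMs : Group.IsSolvable M) (hLM : L ≤ M) (hML : M ≤ normalizer (L : Set G))
    (hMQ : M ≤ normalizer (Q : Set G)) (hQ : IsPGroup q Q) (hc : Cfsg.IsComplIn Q D L)
    (hDq : (Nat.card D).Coprime q) (hD : Group.IsNilpotent D) (hHL : H ≤ L)
    (hHall : (Nat.card H).Coprime (H.relIndex L)) :
    ∀ x ∈ H, ∀ m ∈ M, m * x * m⁻¹ ∈ H →
      ∃ n ∈ M ⊓ normalizer (H : Set G), n * x * n⁻¹ = m * x * m⁻¹ := by
  have hq : q.Prime := Fact.out
  obtain ⟨hQL, hDL, hQD, hprod⟩ := hc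
  obtain ⟨k, hk⟩ := IsPGroup.iff_card.mp hQ
  have hLQ : L ≤ normalizer (Q : Set G) := hLM.trans hMQ
  have hcopDQ : (Nat.card D).Coprime (Nat.card Q) := by
    rw [hk]; exact Nat.Coprime.pow_right _ hDq
  have hLsup : L = D ⊔ Q := by
    apply le_antisymm
    · intro l hl
      obtain ⟨a, ha, b, hb, rfl⟩ := hprod l hl
      exact mul_mem (mem_sup_right ha) (mem_sup_left hb)
    · exact sup_le hDL hQL
  have hcardL : Nat.card L = Nat.card D * Nat.card Q := by
    rw [hLsup]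
    exact Cfsg.Agent.Lib.Helper1.card_sup_of_coprime_le_normalizer (hDL.trans hLQ) hcopDQ
  have hQrel : Q.relIndex L = Nat.card D := by
    have h1 := card_eq_card_mul_relIndex hQL
    rw [hcardL, mul_comm] at h1
    exact (Nat.eq_of_mul_eq_mul_left Nat.card_pos h1).symm
  have hDrel : D.relIndex L = Nat.card Q := by
    have h1 := card_eq_card_mul_relIndex hDL
    rw [hcardL] at h1
    exact (Nat.eq_of_mul_eq_mul_left Nat.card_pos h1).symm
  have hQsyl : IsSylowIn q Q L := ⟨hQL, hQ, by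
    rw [hQrel]
    intro h
    exact hq.one_lt.ne' (Nat.Coprime.eq_one_of_dvd hDq.symm h)⟩
  -- a Sylow subgroup of `H` is a Sylow subgroup of `L`
  have hsylHL : ∀ (r : ℕ) [Fact r.Prime] (S : Subgroup G), r ∣ Nat.card H → IsSylowIn r S H →
      IsSylowIn r S L := by
    intro r _ S hr hS
    refine ⟨hS.le.trans hHL, hS.isPGroup, ?_⟩
    rw [← relIndex_mul_relIndex S H L hS.le hHL]
    intro h
    rcases (Nat.Prime.dvd_mul Fact.out).1 h with h | h
    · exact hS.not_dvd h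
    · exact (Nat.Prime.one_lt (Fact.out : r.Prime)).ne'
        (Nat.eq_one_of_dvd_coprimes hHall hr h)
  have hqsyl : ∀ S : Subgroup G, IsSylowIn q S L → S = Q := by
    intro S hS
    obtain ⟨l, hl, hlS⟩ := hQsyl.conj hS
    rw [hlS, cj_eq_of_mem_normalizer (hLQ hl)]
  -- STEP 1
  have step1 : ∀ m ∈ M, cj m H ≤ Q ⊔ H := by
    intro m hm
    apply Cfsg.Agent.Lib.Helper68.le_of_forall_isSylowIn
    intro r _ hr
    rw [card_cj] at hr
    obtain ⟨S, hS⟩ := exists_isSylowIn r H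
    refine ⟨cj m S, hS.cj m, ?_⟩
    have hSL := hsylHL r S hr hS
    have hSL' : IsSylowIn r (cj m S) L := by
      have := hSL.cj m
      rwa [cj_eq_of_mem_normalizer (hML hm)] at this
    by_cases hrq : r = q
    · subst hrq
      rw [hqsyl _ hSL']
      exact le_sup_left
    · obtain ⟨Dr, hDr⟩ := exists_isSylowIn r D
      have hDrL : IsSylowIn r Dr L := by
        refine ⟨hDr.le.trans hDL, hDr.isPGroup, ?_⟩
        rw [← relIndex_mul_relIndex Dr D L hDr.le hDL, hDrel, hk]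
        intro h
        rcases (Nat.Prime.dvd_mul Fact.out).1 h with h | h
        · exact hDr.not_dvd h
        · exact hrq ((Nat.prime_dvd_prime_iff_eq Fact.out hq).1
            (Nat.Prime.dvd_of_dvd_pow Fact.out h))
      have hDN : D ≤ normalizer (Dr : Set G) :=
        le_normalizer.trans (Cfsg.Agent.Lib.Helper14.BG12.normalizer_le_of_nilpotent hD hDr)
      have hW : ∀ l ∈ L, cj l Dr ≤ Q ⊔ Dr := by
        intro l hl
        obtain ⟨a, ha, b, hb, rfl⟩ := hprod l hl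
        rw [cj_mul, cj_eq_of_mem_normalizer (hDN hb)]
        calc cj a Dr ≤ cj a (Q ⊔ Dr) := cj_mono a le_sup_right
          _ = Q ⊔ Dr := cj_eq_of_mem (mem_sup_left ha)
      obtain ⟨l, hl, hlS⟩ := hDrL.conj hSL
      obtain ⟨l', hl', hlS'⟩ := hDrL.conj hSL'
      have hWl : cj l (Q ⊔ Dr) = Q ⊔ Dr := by
        apply Subgroup.eq_of_le_of_card_ge
        · rw [cj_sup, cj_eq_of_mem_normalizer (hLQ hl)]
          exact sup_le le_sup_left (hW l hl)
        · rw [card_cj]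
      have hQS : Q ⊔ S = Q ⊔ Dr := by
        rw [← hWl, cj_sup, cj_eq_of_mem_normalizer (hLQ hl), hlS]
      calc cj m S = cj l' Dr := hlS'
        _ ≤ Q ⊔ Dr := hW l' hl'
        _ = Q ⊔ S := hQS.symm
        _ ≤ Q ⊔ H := sup_le_sup_left hS.le Q
  intro x hx m hm hy
  by_cases hqH : q ∣ Nat.card H
  · -- STEP 2
    obtain ⟨S, hS⟩ := exists_isSylowIn q H
    have hSQ : S = Q := hqsyl S (hsylHL q S hqH hS)
    have hQH : Q ≤ H := hSQ ▸ hS.le
    have h1 : cj m H = H := by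
      apply Subgroup.eq_of_le_of_card_ge
      · exact (step1 m hm).trans (sup_le hQH le_rfl)
      · rw [card_cj]
    exact ⟨m, ⟨hm, mem_normalizer_of_cj_eq h1⟩, rfl⟩
  · -- STEP 3
    have hcop : (Nat.card Q).Coprime (Nat.card H) := by
      rw [hk]
      exact Nat.Coprime.pow_left _ ((Nat.Prime.coprime_iff_not_dvd hq).2 hqH)
    have hHQ : H ≤ normalizer (Q : Set G) := hHL.trans hLQ
    obtain ⟨u, hu, huH⟩ := sz_conj Q H (cj m H) hHQ
      (Or.inr (isSolvable_of_le (hHL.trans hLM) hMs)) hcop (step1 m hm) (card_cj m H)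
    have hn : cj (u⁻¹ * m) H = H := by rw [cj_mul, huH, cj_inv_cj]
    refine ⟨u⁻¹ * m, ⟨M.mul_mem (M.inv_mem (hLM (hQL hu))) hm, mem_normalizer_of_cj_eq hn⟩, ?_⟩
    have hx'' : (u⁻¹ * m) * x * (u⁻¹ * m)⁻¹ ∈ H := by
      have := conj_mem_cj (g := u⁻¹ * m) hx
      rwa [hn] at this
    obtain ⟨z, hz⟩ : ∃ z, z = (u⁻¹ * m) * x * (u⁻¹ * m)⁻¹ := ⟨_, rfl⟩
    rw [← hz] at hx'' ⊢
    have hyz : m * x * m⁻¹ = u * z * u⁻¹ := by rw [hz]; group
    have h1 : m * x * m⁻¹ * z⁻¹ ∈ Q ⊓ H := by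
      refine ⟨?_, H.mul_mem hy (H.inv_mem hx'')⟩
      have : m * x * m⁻¹ * z⁻¹ = u * (z * u⁻¹ * z⁻¹) := by rw [hyz]; group
      rw [this]
      exact Q.mul_mem hu ((mem_normalizer_iff.mp (hHQ hx'') u⁻¹).mp (Q.inv_mem hu))
    rw [(Subgroup.disjoint_of_coprime_natCard hcop).eq_bot, mem_bot] at h1
    exact (mul_inv_eq_one.1 h1).symm

end Cfsg.Agent.Lib.Helper13.BG153
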